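import Groth.Agent.EpsLib.SingleCech
import Mathlib.Algebra.Category.ModuleCat.Adjunctions
import Mathlib.Algebra.Category.ModuleCat.Abelian
import Mathlib.CategoryTheory.Abelian.FunctorCategory
import Mathlib.CategoryTheory.Abelian.Images

/-! Čech exactness of injective presheaves of modules. -/

set_option autoImplicit false
set_option linter.style.haveILetI false
set_option backward.isDefEq.respectTransparency false
universe u

open CategoryTheory CategoryTheory.Limits Opposite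
open Groth.Agent.EpsLib

namespace Groth.Agent.EtModHLib

variable (Λ : Type (u + 1)) [CommRing Λ] {C : Type (u + 1)} [Category.{u} C]
variable {W' W : C} {π : W' ⟶ W} (N : Nerve π)

/-- The free presheaf of modules on a power. -/
noncomputable abbrev QL (n : ℕ) : Cᵒᵖ ⥤ ModuleCat.{u + 1} Λ :=
  uliftYoneda.{u + 1}.obj (N.obj n) ⋙ ModuleCat.free Λ

/-- A generator. -/
noncomputable def genL {n : ℕ} {V : C} (x : V ⟶ N.obj n) : (QL Λ N n).obj (op V) :=
  ModuleCat.freeMk (ULift.up x)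

/-- The boundary. -/
noncomputable def bdL (n : ℕ) : QL Λ N (n + 1) ⟶ QL Λ N n :=
  ∑ i : Fin (n + 2), ((-1 : ℤ) ^ (i : ℕ)) •
    Functor.whiskerRight (uliftYoneda.{u + 1}.map (N.face n i)) (ModuleCat.free Λ)

theorem bdL_gen (n : ℕ) {V : C} (x : V ⟶ N.obj (n + 1)) :
    (bdL Λ N n).app (op V) (genL Λ N x) =
      ∑ i : Fin (n + 2), ((-1 : ℤ) ^ (i : ℕ)) • genL Λ N (x ≫ N.face n i) := by
  simp only [bdL, NatTrans.app_sum, ModuleCat.hom_sum, LinearMap.coe_sum, Finset.sum_apply,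
    NatTrans.app_zsmul, ModuleCat.hom_zsmul, LinearMap.smul_apply]
  refine Finset.sum_congr rfl fun i _ => ?_
  congr 1
  exact ModuleCat.free_map_apply _ (ULift.up x)

variable {V : C} (s : (V ⟶ W) → (V ⟶ W')) (hs : ∀ a : V ⟶ W', s (a ≫ π) ≫ π = a ≫ π)

/-- The contracting homotopy. -/
noncomputable def homL (n : ℕ) : (QL Λ N n).obj (op V) ⟶ (QL Λ N (n + 1)).obj (op V) :=
  (ModuleCat.free Λ).map (↾fun x => ULift.up (prep N s hs n x.down))

theorem homL_gen (n : ℕ) (x : V ⟶ N.obj n) : homL Λ N s hs n (genL Λ N x) = genL Λ N (prep N s hs n x) :=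
  ModuleCat.free_map_apply _ (ULift.up x)

theorem bdL_homL (n : ℕ) :
    homL Λ N s hs (n + 1) ≫ (bdL Λ N (n + 1)).app (op V) =
      𝟙 _ - (bdL Λ N n).app (op V) ≫ homL Λ N s hs n := by
  refine ModuleCat.free_hom_ext fun x => ?_
  obtain ⟨x⟩ := x
  show (bdL Λ N (n + 1)).app (op V) (homL Λ N s hs (n + 1) (genL Λ N x)) =
    genL Λ N x - homL Λ N s hs n ((bdL Λ N n).app (op V) (genL Λ N x))
  rw [homL_gen, bdL_gen, bdL_gen, map_sum, Fin.sum_univ_succ, prep_face_zero, sub_eq_add_neg,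
    ← Finset.sum_neg_distrib]
  simp only [Fin.val_zero, pow_zero, one_smul, Fin.val_succ, map_zsmul, homL_gen, prep_face_succ]
  refine congrArg (genL Λ N x + ·) (Finset.sum_congr rfl fun i _ => ?_)
  rw [pow_succ, mul_neg_one, neg_smul]

omit s hs in
theorem exists_bdL_eq (n : ℕ) {V : C} (z : (QL Λ N (n + 1)).obj (op V)) (hz : (bdL Λ N n).app (op V) z = 0) :
    ∃ w, (bdL Λ N (n + 1)).app (op V) w = z := by
  rcases isEmpty_or_nonempty (V ⟶ W') with h | ⟨⟨a₀⟩⟩
  · haveI : IsEmpty (ULift.{u + 1} (V ⟶ N.obj (n + 1))) := ⟨fun x => h.elim (x.down ≫ N.pr _ 0)⟩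
    haveI : Subsingleton ((QL Λ N (n + 1)).obj (op V)) :=
      inferInstanceAs (Subsingleton ((ULift.{u + 1} (V ⟶ N.obj (n + 1))) →₀ Λ))
    exact ⟨0, Subsingleton.elim _ _⟩
  · obtain ⟨s, hs, -⟩ := exists_section_choice (π := π) V a₀
    refine ⟨homL Λ N s hs (n + 1) z, ?_⟩
    have e := ConcreteCategory.congr_hom (bdL_homL Λ N s hs n) z
    refine e.trans ?_
    show z - homL Λ N s hs n ((bdL Λ N n).app (op V) z) = z
    rw [hz, map_zero, sub_zero]

/-- The section of a map out of a free presheaf. -/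
noncomputable def elL {n : ℕ} {M : Cᵒᵖ ⥤ ModuleCat.{u + 1} Λ} (φ : QL Λ N n ⟶ M) : M.obj (op (N.obj n)) :=
  φ.app (op (N.obj n)) (genL Λ N (𝟙 _))

omit s hs in
theorem appL_gen {n : ℕ} {M : Cᵒᵖ ⥤ ModuleCat.{u + 1} Λ} (φ : QL Λ N n ⟶ M) {V : C} (x : V ⟶ N.obj n) :
    φ.app (op V) (genL Λ N x) = M.map x.op (elL Λ N φ) := by
  rw [elL, ← NatTrans.naturality_apply φ x.op]
  refine congrArg (φ.app (op V)) ?_
  refine Eq.symm ((ModuleCat.free_map_apply _ _).trans ?_)
  exact congrArg (fun m => ModuleCat.freeMk (R := Λ) (ULift.up m)) (Category.comp_id x)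

omit s hs in
theorem elL_injective {n : ℕ} {M : Cᵒᵖ ⥤ ModuleCat.{u + 1} Λ} {φ ψ : QL Λ N n ⟶ M}
    (h : elL Λ N φ = elL Λ N ψ) : φ = ψ := by
  refine NatTrans.ext (funext fun U => ModuleCat.free_hom_ext fun x => ?_)
  obtain ⟨x⟩ := x
  exact (appL_gen Λ N φ x).trans ((congrArg (M.map x.op) h).trans (appL_gen Λ N ψ x).symm)

omit s hs in
theorem exists_elL_eq {n : ℕ} {M : Cᵒᵖ ⥤ ModuleCat.{u + 1} Λ} (t : M.obj (op (N.obj n))) :
    ∃ φ : QL Λ N n ⟶ M, elL Λ N φ = t := by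
  refine ⟨{ app := fun U => ModuleCat.freeDesc (↾fun x => M.map x.down.op t), naturality := ?_ }, ?_⟩
  · intro U U' h
    refine ModuleCat.free_hom_ext fun x => ?_
    obtain ⟨x⟩ := x
    show ModuleCat.freeDesc _ ((ModuleCat.free Λ).map _ (ModuleCat.freeMk (ULift.up x))) =
      M.map h (ModuleCat.freeDesc _ (ModuleCat.freeMk (ULift.up x)))
    rw [ModuleCat.free_map_apply, ModuleCat.freeDesc_apply, ModuleCat.freeDesc_apply]
    show M.map (h.unop ≫ x).op t = M.map h (M.map x.op t)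
    rw [op_comp, Functor.map_comp]
    rfl
  · show ModuleCat.freeDesc _ (ModuleCat.freeMk (ULift.up (𝟙 (N.obj n)))) = t
    rw [ModuleCat.freeDesc_apply]
    show M.map (𝟙 (N.obj n)).op t = t
    rw [op_id, M.map_id]
    rfl

/-- The underlying presheaf of abelian groups. -/
noncomputable abbrev forgetP (M : Cᵒᵖ ⥤ ModuleCat.{u + 1} Λ) : Cᵒᵖ ⥤ AddCommGrpCat.{u + 1} :=
  M ⋙ forget₂ (ModuleCat.{u + 1} Λ) AddCommGrpCat.{u + 1}

omit s hs in
theorem elL_bdL {n : ℕ} {M : Cᵒᵖ ⥤ ModuleCat.{u + 1} Λ} (φ : QL Λ N n ⟶ M) :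
    elL Λ N (bdL Λ N n ≫ φ) = cechD N (forgetP Λ M) n (elL Λ N φ) := by
  show φ.app _ ((bdL Λ N n).app _ (genL Λ N (𝟙 _))) = _
  rw [bdL_gen, map_sum, cechD_apply]
  refine Finset.sum_congr rfl fun i _ => ?_
  rw [map_zsmul, Category.id_comp, appL_gen]
  rfl

omit s hs in
/-- Injective presheaves of modules are Čech exact. -/
theorem hExact_forget_injective (M : Cᵒᵖ ⥤ ModuleCat.{u + 1} Λ) [Injective M] (n : ℕ) :
    HExact N (forgetP Λ M) n := by
  intro x hx
  obtain ⟨φ, rfl⟩ := exists_elL_eq Λ N (M := M) x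
  have h0 : bdL Λ N (n + 1) ≫ φ = 0 := by
    refine elL_injective Λ N ((elL_bdL Λ N φ).trans (hx.trans ?_))
    rfl
  have h1 : kernel.ι (bdL Λ N n) ≫ φ = 0 := by
    ext U z
    have hz : (bdL Λ N n).app U ((kernel.ι (bdL Λ N n)).app U z) = 0 :=
      ConcreteCategory.congr_hom (congr_arg (fun k => k.app U) (kernel.condition (bdL Λ N n))) z
    obtain ⟨w, hw⟩ := exists_bdL_eq Λ N n (V := U.unop) _ hz
    show φ.app U ((kernel.ι (bdL Λ N n)).app U z) = 0
    rw [← hw]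
    exact ConcreteCategory.congr_hom (congr_arg (fun k => k.app U) h0) w
  let g : Abelian.coimage (bdL Λ N n) ⟶ M := cokernel.desc (kernel.ι (bdL Λ N n)) φ h1
  refine ⟨elL Λ N (Injective.factorThru g (Abelian.factorThruCoimage (bdL Λ N n))), ?_⟩
  refine (elL_bdL Λ N _).symm.trans (congrArg (elL Λ N) ?_)
  refine (congrArg (· ≫ Injective.factorThru g (Abelian.factorThruCoimage (bdL Λ N n))) (Abelian.coimage.fac (bdL Λ N n)).symm).trans ?_
  rw [Category.assoc, Injective.comp_factorThru]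
  exact cokernel.π_desc _ _ _

end Groth.Agent.EtModHLib
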