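import Groth.Prelude.Def_SixF2
import Groth.Agent.EtShLib.CechColim
import Groth.Agent.EtModHLib.Pre

/-! Injective sheaves of modules are acyclic as sheaves of abelian groups. -/

set_option autoImplicit false
set_option linter.unusedSectionVars false
set_option linter.style.haveILetI false
set_option backward.isDefEq.respectTransparency false
set_option backward.isDefEq.respectTransparency.types false
set_option synthInstance.maxHeartbeats 400000
set_option maxHeartbeats 1000000

universe u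

open CategoryTheory CategoryTheory.Limits AlgebraicGeometry Opposite CategoryTheory.Abelian
open Groth.Agent.EtShLib

namespace Groth.Agent.EtModHLib

variable {X : Scheme.{u}}

theorem exists_cover_lift_all {S : ShortComplex (EtCoh.Ab X)} (hS : S.ShortExact) {W : X.Etale}
    (s : S.X₃.obj.obj (op W)) :
    ∃ (W' : X.Etale) (π : W' ⟶ W), Surjective π.left ∧
      ∃ t : S.X₂.obj.obj (op W'), S.g.hom.app (op W') t = S.X₃.obj.map π.op s := by
  classical
  haveI := hS.epi_g
  have hsurj := (epi_iff_stalks (A := AddCommGrpCat.{u + 1}) S.g).1 inferInstance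
  have hloc : ∀ y : W.left, ∃ (V : X.Etale) (g : V ⟶ W) (t : S.X₂.obj.obj (op V)),
      y ∈ Set.range g.left.base ∧ S.g.hom.app (op V) t = S.X₃.obj.map g.op s := by
    intro y
    obtain ⟨Ω, _, _, ξ, u, rfl⟩ := exists_geometric (U := W) y
    obtain ⟨q, hq⟩ := (AddCommGrpCat.epi_iff_surjective _).1 (hsurj Ω ξ) (germ (A := AddCommGrpCat.{u + 1}) ξ S.X₃ W u s)
    obtain ⟨V₁, g₁, v₁, t₁, hv₁, rfl⟩ := exists_germ_below (A := AddCommGrpCat.{u + 1}) ξ q W u
    rw [germ_natural_apply, ← hv₁, ← germ_res_apply] at hq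
    obtain ⟨V₂, g₂, v₂, hv₂, he⟩ := (germ_eq_iff (A := AddCommGrpCat.{u + 1}) ξ V₁ v₁ _ _).1 hq
    refine ⟨V₂, g₂ ≫ g₁, S.X₂.obj.map g₂.op t₁, ⟨v₂.pt, ?_⟩, ?_⟩
    · show g₁.left.base (g₂.left.base v₂.pt) = u.pt
      rw [← hv₁, ← hv₂]
      rfl
    · refine (NatTrans.naturality_apply S.g.hom g₂.op t₁).trans ?_
      simp only [op_comp, Functor.map_comp, ConcreteCategory.comp_apply]
      exact he
  choose V g t hy ht using hloc
  let F := W.left
  let sch : F → Scheme.{u} := fun y => (V y).left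
  haveI : AlgebraicGeometry.Etale (Sigma.desc fun y : F => (V y).hom) :=
    IsZariskiLocalAtSource.sigmaDesc (P := @AlgebraicGeometry.Etale) fun y => (V y).prop
  let W' : X.Etale := MorphismProperty.Over.mk ⊤ (Sigma.desc fun y : F => (V y).hom)
    (inferInstance : AlgebraicGeometry.Etale (Sigma.desc fun y : F => (V y).hom))
  let ι : ∀ y : F, V y ⟶ W' := fun y => MorphismProperty.Over.homMk (Sigma.ι sch y) (Sigma.ι_desc _ _)
  let π : W' ⟶ W := MorphismProperty.Over.homMk (Sigma.desc fun y : F => (g y).left) (by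
    refine Sigma.hom_ext _ _ fun y => ?_
    refine ((Category.assoc _ _ _).symm.trans (congrArg (· ≫ W.hom) (Sigma.ι_desc _ y))).trans ?_
    exact (MorphismProperty.Over.w (g y)).trans (Sigma.ι_desc (fun y : F => (V y).hom) y).symm)
  have hιπ : ∀ y : F, ι y ≫ π = g y := fun y => MorphismProperty.Over.Hom.ext (Sigma.ι_desc _ y)
  have hπ : Surjective π.left := ⟨fun z => by
    obtain ⟨p, hp⟩ := hy z
    refine ⟨(ι z).left.base p, ?_⟩
    refine Eq.trans ?_ hp
    exact congrArg (fun t : V z ⟶ W => t.left.base p) (hιπ z)⟩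
  have hcov : Sieve.ofArrows (fun y : F => V y) ι ∈ X.smallEtaleTopology W' := by
    refine (Scheme.ofArrows_mem_smallEtaleTopology_iff ι).2 (Set.eq_univ_of_forall fun z => ?_)
    obtain ⟨⟨y, p⟩, hp⟩ := (sigmaMk sch).surjective z
    exact Set.mem_iUnion.2 ⟨y, p, (sigmaMk_mk sch y p).symm.trans hp⟩
  have hsh : (Presieve.ofArrows (fun y : F => V y) ι).IsSheafFor (S.X₂.obj ⋙ forget AddCommGrpCat.{u + 1}) := by
    rw [Presieve.isSheafFor_iff_generate]
    exact ((isSheaf_iff_isSheaf_of_type _ _).1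
      (GrothendieckTopology.HasSheafCompose.isSheaf S.X₂.obj S.X₂.property)) _ hcov
  obtain ⟨T, hT, -⟩ := (Presieve.isSheafFor_arrows_iff _ _).1 hsh (fun y => t y) (fun i j Z a b hab => by
    by_cases hij : i = j
    · subst hij
      have : a = b := MorphismProperty.Over.Hom.ext
        ((cancel_mono (Sigma.ι sch i)).1 (congrArg (fun k : Z ⟶ W' => k.left) hab))
      rw [this]
    · haveI : IsEmpty Z.left := ⟨fun z => hij (congrArg Sigma.fst ((sigmaMk sch).injective
        ((sigmaMk_mk sch i (a.left.base z)).trans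
          ((congrArg (fun k : Z ⟶ W' => k.left.base z) hab).trans (sigmaMk_mk sch j (b.left.base z)).symm))))⟩
      exact eq_of_germ (A := AddCommGrpCat.{u + 1}) S.X₂ (U := Z) _ _ fun Ω _ _ ξ u => isEmptyElim u.pt)
  refine ⟨W', π, hπ, T, res_ext S.X₃ _ _ fun z => ?_⟩
  obtain ⟨⟨y, p⟩, hp⟩ := (sigmaMk sch).surjective z
  refine ⟨V y, ι y, ⟨p, (sigmaMk_mk sch y p).symm.trans hp⟩, ?_⟩
  rw [← NatTrans.naturality_apply]
  refine (congrArg (S.g.hom.app (op (V y))) (hT y)).trans ((ht y).trans ?_)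
  rw [← ConcreteCategory.comp_apply, ← Functor.map_comp, ← op_comp, hιπ]


/-- Čech exactness for all surjective covers. -/
def CechAcy (F : EtCoh.Ab X) : Prop :=
  ∀ (W' W : X.Etale) (π : W' ⟶ W), Surjective π.left → ∀ n, EpsLib.HExact (EpsLib.nerveOf π) F.obj n

theorem surjective_sections_all {S : ShortComplex (EtCoh.Ab X)} (hS : S.ShortExact) (h : CechAcy S.X₁)
    (W : X.Etale) : Function.Surjective (S.g.hom.app (op W)) := fun s => by
  obtain ⟨W', π, hπ, t, ht⟩ := exists_cover_lift_all hS s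
  exact EpsLib.exists_lift_of_hExact hS (EpsLib.nerveOf π) (ofArrows_single_mem π hπ) (h W' W π hπ 0) s t ht

theorem cechAcy_quotient {S : ShortComplex (EtCoh.Ab X)} (hS : S.ShortExact) [Injective S.X₂]
    (h : CechAcy S.X₁) : CechAcy S.X₃ := fun W' W π hπ n =>
  EpsLib.hExact_quotient hS (EpsLib.nerveOf π) (surjective_sections_all hS h _)
    (h W' W π hπ (n + 1)) (EpsLib.hExact_injective_sheaf S.X₂ (EpsLib.nerveOf π) n)

theorem subsingleton_H_cechAcy : ∀ (p : ℕ) (G : EtCoh.Ab X), CechAcy G → Subsingleton (EtCoh.H X G (p + 1))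
  | 0, G, hG => by
    haveI : Injective (CohLib.injSC G).X₂ := inferInstanceAs (Injective (Injective.under G))
    haveI := CohLib.subsingleton_ext_injective.{u + 1} (constZ X) (CohLib.injSC G).X₂ 0
    refine CohLib.subsingleton_ext_one_of_lift (CohLib.injSC_shortExact G) fun s => ?_
    obtain ⟨hT⟩ := isTerminal_top X
    obtain ⟨t, ht⟩ := surjective_sections_all (CohLib.injSC_shortExact G) hG (EtCoh.top X)
      (Sheaf.H.equiv₀ (CohLib.injSC G).X₃ hT (Ext.mk₀ s))
    refine ⟨Ext.addEquiv₀ ((Sheaf.H.equiv₀ (CohLib.injSC G).X₂ hT).symm t), ?_⟩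
    rw [← Sheaf.H.addEquiv₀_map, Sheaf.H.equiv₀_symm_naturality, ht, AddEquiv.symm_apply_apply]
    exact Ext.addEquiv₀.symm.injective (by simp)
  | p + 1, G, hG => by
    haveI : Injective (CohLib.injSC G).X₂ := inferInstanceAs (Injective (Injective.under G))
    haveI := CohLib.subsingleton_ext_injective.{u + 1} (constZ X) (CohLib.injSC G).X₂ (p + 1)
    haveI : Subsingleton (Ext.{u + 1} (constZ X) (CohLib.injSC G).X₃ (p + 1)) :=
      subsingleton_H_cechAcy p _ (cechAcy_quotient (CohLib.injSC_shortExact G) hG)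
    exact CohLib.subsingleton_ext_of_shift (CohLib.injSC_shortExact G)

variable (Λ : Type (u + 1)) [CommRing Λ]

theorem cechAcy_forget_injective (I : EtModW.Mod Λ X) [Injective I] :
    CechAcy ((EtModD.forgetToAb Λ X).obj I) := fun W' W π _ n =>
  haveI : Injective I.obj :=
    Injective.injective_of_adjoint (sheafificationAdjunction X.smallEtaleTopology (ModuleCat.{u + 1} Λ)) I
  hExact_forget_injective Λ (EpsLib.nerveOf π) I.obj n

theorem subsingleton_H_forget_injective (I : EtModW.Mod Λ X) [Injective I] (p : ℕ) :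
    Subsingleton (EtCoh.H X ((EtModD.forgetToAb Λ X).obj I) (p + 1)) :=
  subsingleton_H_cechAcy p _ (cechAcy_forget_injective Λ I)

end Groth.Agent.EtModHLib
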